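import Groth.Agent.S3029
import Groth.Agent.L12.RegLift2
import Groth.Agent.L01.CohenFinite
import Groth.Agent.L02.CMMor.Local
import Groth.Agent.L20.FibreStalk
import Groth.Prelude.Def_Red
import Mathlib.RingTheory.Flat.FaithfullyFlat.Basic
import Mathlib.AlgebraicGeometry.Morphisms.Flat

/-!
# Finite flat quasi-sections of flat groups over Artinian bases
-/

set_option autoImplicit false
set_option linter.style.haveILetI false
set_option linter.unusedSectionVars false
set_option backward.isDefEq.respectTransparency false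
set_option backward.isDefEq.respectTransparency.types false

universe u

open CategoryTheory CategoryTheory.Limits AlgebraicGeometry IsLocalRing RingTheory.Sequence

namespace Groth.L04.StrictRat

/-- A Cohen-Macaulay local ring has a regular sequence cutting out a zero-dimensional quotient. -/
theorem exists_regular_cut (R : Type u) [CommRing R] [LocCoh.IsCohenMacaulayLocalRing R] :
    ∃ (n : ℕ) (x : Fin n → R) (N : ℕ), IsRegular R (List.ofFn x) ∧
      maximalIdeal R ^ N ≤ Ideal.span (Set.range x) := by
  haveI : Nontrivial R := (inferInstance : IsLocalRing R).toNontrivial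
  obtain ⟨n, x, N, hx, hN, hn⟩ := Groth.L01.CohenFinite.exists_sop (⊥ : Ideal R) bot_le
  rw [sup_bot_eq] at hN
  rw [ringKrullDim_eq_of_ringEquiv (RingEquiv.quotientBot R)] at hn
  have hI : Ideal.ofList (List.ofFn x) = Ideal.span (Set.range x) := Groth.L12.RegLift.ofList_ofFn x
  have hmem : ∀ y ∈ List.ofFn x, y ∈ maximalIdeal R := by
    intro y hy
    obtain ⟨i, rfl⟩ := List.mem_ofFn.1 hy
    exact hx i
  have hne : Ideal.ofList (List.ofFn x) ≠ ⊤ :=
    ne_top_of_le_ne_top (maximalIdeal.isMaximal R).ne_top (Ideal.span_le.2 hmem)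
  haveI : Nontrivial (R ⧸ Ideal.ofList (List.ofFn x)) := Ideal.Quotient.nontrivial_iff.2 hne
  haveI : Ring.KrullDimLE 0 (R ⧸ Ideal.ofList (List.ofFn x)) := by
    rw [Ring.krullDimLE_zero_iff]
    intro P hP
    have hc : maximalIdeal R ≤ P.comap (Ideal.Quotient.mk (Ideal.ofList (List.ofFn x))) := by
      refine (hP.comap _).le_of_pow_le (n := N) (hN.trans ?_)
      rw [← hI]
      intro a ha
      rw [Ideal.mem_comap, Ideal.Quotient.eq_zero_iff_mem.2 ha]
      exact zero_mem _
    have hm : (maximalIdeal R).map (Ideal.Quotient.mk (Ideal.ofList (List.ofFn x))) ≤ P := Ideal.map_le_iff_le_comap.2 hc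
    haveI : IsLocalRing (R ⧸ Ideal.ofList (List.ofFn x)) := IsLocalRing.of_surjective' _ Ideal.Quotient.mk_surjective
    rw [← Groth.L01.maximalIdeal_quotient_eq_map] at hm
    exact (maximalIdeal.isMaximal _).eq_of_le hP.ne_top hm ▸ maximalIdeal.isMaximal _
  refine ⟨n, x, N, ⟨Groth.L12.RegLift.isWeaklyRegular_of_dim _ hmem ?_, ?_⟩, hN⟩
  · rw [List.length_ofFn, ringKrullDimZero_iff_ringKrullDim_eq_zero.1 inferInstance, zero_add, hn]
  · rw [smul_eq_mul, Ideal.mul_top]
    exact hne.symm

/-- Artinian local algebras with finite residue field are finite. -/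
theorem finite_of_residueField {A B : Type u} [CommRing A] [CommRing B] [Algebra A B] [IsLocalRing B]
    [IsNoetherianRing B] {N : ℕ} (hN : maximalIdeal B ^ N = ⊥) [Module.Finite A (ResidueField B)] :
    Module.Finite A B := by
  suffices h : ∀ i, Module.Finite A ↥(maximalIdeal B ^ (N - i) : Ideal B) by
    haveI h0 := h N
    rw [Nat.sub_self, pow_zero, Ideal.one_eq_top] at h0
    exact Module.Finite.equiv ((Submodule.topEquiv : (⊤ : Ideal B) ≃ₗ[B] B).restrictScalars A)
  intro i
  induction i with
  | zero =>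
    rw [Nat.sub_zero, hN]
    infer_instance
  | succ i ih =>
    by_cases hi : N ≤ i
    · rw [show N - (i + 1) = 0 by omega, ← show N - i = 0 by omega]; exact ih
    · obtain ⟨j, hj, hj'⟩ : ∃ j, N - (i + 1) = j ∧ N - i = j + 1 := ⟨N - (i + 1), rfl, by omega⟩
      rw [hj]
      rw [hj'] at ih
      let m := maximalIdeal B
      let S : Submodule B ↥(m ^ j) := m • ⊤
      haveI : Module.Finite B ↥(m ^ j) := Module.Finite.iff_fg.2 (IsNoetherian.noetherian _)
      haveI : Module.Finite A (B ⧸ m) := inferInstanceAs (Module.Finite A (ResidueField B))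
      haveI h1 : Module.Finite (B ⧸ m) (↥(m ^ j) ⧸ S) :=
        Module.Finite.of_restrictScalars_finite B (B ⧸ m) _
      haveI : IsScalarTower A (B ⧸ m) (↥(m ^ j) ⧸ S) := IsScalarTower.of_algebraMap_smul fun a z => by
        rw [IsScalarTower.algebraMap_apply A B (B ⧸ m)]
        exact (algebraMap_smul (B ⧸ m) (algebraMap A B a) z).trans (algebraMap_smul B a z)
      haveI : Module.Finite A (↥(m ^ j) ⧸ S) := Module.Finite.trans (B ⧸ m) _
      haveI h2 : Module.Finite A (↥(m ^ j) ⧸ S.restrictScalars A) :=
        Module.Finite.equiv ((Submodule.Quotient.restrictScalarsEquiv A S).symm.restrictScalars A)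
      haveI h3 : Module.Finite A ↥(S.restrictScalars A) := by
        have hS : S.map (m ^ j : Ideal B).subtype = m ^ (j + 1) := by
          rw [Submodule.map_smul'', Submodule.map_top, Submodule.range_subtype, smul_eq_mul, ← pow_succ']
        exact Module.Finite.equiv (((Submodule.equivMapOfInjective (m ^ j : Ideal B).subtype
          (Submodule.injective_subtype _) S).trans (LinearEquiv.ofEq _ _ hS)).symm.restrictScalars A)
      exact Module.Finite.of_submodule_quotient (S.restrictScalars A)

/-- The stalk of `Spec` at the closed point of a local ring. -/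
theorem toStalk_bijective (A : Type u) [CommRing A] [IsLocalRing A] (s : PrimeSpectrum.Top A)
    (hs : s.asIdeal = maximalIdeal A) : Function.Bijective (StructureSheaf.toStalk A s).hom := by
  haveI : IsLocalization.AtPrime ((AlgebraicGeometry.structurePresheafInCommRingCat A).stalk s) s.asIdeal :=
    inferInstance
  exact (IsLocalization.atUnits A s.asIdeal.primeCompl (S := (AlgebraicGeometry.structurePresheafInCommRingCat A).stalk s)
    (fun a ha => by
      by_contra hu
      exact ha (hs.ge ((mem_maximalIdeal a).2 hu)))).bijective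

/-- A flat locally finite type group over an Artinian local ring has a finite free quasi-section through every
point with values in a finite extension of the residue field. -/
theorem exists_quasiSection {A : Type u} [CommRing A] [IsArtinianRing A] [IsLocalRing A]
    (G : Over (Spec (CommRingCat.of A))) [GrpObj G] [Flat G.hom] [LocallyOfFiniteType G.hom]
    {L : Type u} [Field L] (σ : A →+* L) (hσ : σ.Finite) (q : Spec (CommRingCat.of L) ⟶ G.left)
    (hq : q ≫ G.hom = Spec.map (CommRingCat.ofHom σ)) :
    ∃ (B : Type u) (_ : CommRing B) (_ : IsLocalRing B) (_ : Algebra A B) (_ : Module.Finite A B)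
      (_ : Module.Free A B) (ρ : B →+* L) (h : Spec (CommRingCat.of B) ⟶ G.left),
      IsLocalHom ρ ∧ ρ.comp (algebraMap A B) = σ ∧
      h ≫ G.hom = Spec.map (CommRingCat.ofHom (algebraMap A B)) ∧ Spec.map (CommRingCat.ofHom ρ) ≫ h = q := by
  classical
  haveI : IsLocallyNoetherian G.left := LocallyOfFiniteType.isLocallyNoetherian G.hom
  let y : G.left := q (closedPoint L)
  let O := G.left.presheaf.stalk y
  let s : ↥(Spec (CommRingCat.of A)) := G.hom y
  let τ : CommRingCat.of A ⟶ (Spec (CommRingCat.of A)).presheaf.stalk s := StructureSheaf.toStalk A s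
  have hτ : (Spec (CommRingCat.of A)).fromSpecStalk s = Spec.map τ := Spec.fromSpecStalk_eq' _ s
  let α : CommRingCat.of A ⟶ O := τ ≫ G.hom.stalkMap y
  have hα : Spec.map α = G.left.fromSpecStalk y ≫ G.hom := by
    rw [Spec.map_comp, ← hτ, Scheme.SpecMap_stalkMap_fromSpecStalk]
  let ρ₀ : O ⟶ CommRingCat.of L := Scheme.stalkClosedPointTo q
  haveI : IsLocalHom ρ₀.hom := Scheme.isLocalHom_stalkClosedPointTo' q
  have hρ₀ : Spec.map ρ₀ ≫ G.left.fromSpecStalk y = q := Scheme.Spec_stalkClosedPointTo_fromSpecStalk q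
  have hσα : α ≫ ρ₀ = CommRingCat.ofHom σ := Spec.map_injective (by
    rw [Spec.map_comp, hα, reassoc_of% hρ₀, hq])
  -- the fibre
  have hs : s.asIdeal = maximalIdeal A := eq_maximalIdeal inferInstance
  letI := α.hom.toAlgebra
  have hτb : Function.Bijective τ.hom := toStalk_bijective A s hs
  haveI : Module.Flat A O := RingHom.Flat.comp (RingHom.Flat.of_bijective hτb) (Flat.stalkMap G.hom y)
  have hm : (maximalIdeal A).map (algebraMap A O) =
      (maximalIdeal ((Spec (CommRingCat.of A)).presheaf.stalk s)).map (G.hom.stalkMap y).hom := by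
    have h1 : (maximalIdeal A).map τ.hom = maximalIdeal ((Spec (CommRingCat.of A)).presheaf.stalk s) := by
      haveI := Ideal.IsMaximal.map_bijective τ.hom hτb (maximalIdeal.isMaximal A)
      exact eq_maximalIdeal this
    rw [← h1, Ideal.map_map]
    rfl
  obtain ⟨w, hw⟩ : ∃ w : G.hom.fiber s, G.hom.fiberι s w = y := by
    have h1 : y ∈ Set.range (G.hom.fiberι s) := by
      rw [Scheme.Hom.range_fiberι]; rfl
    exact h1
  let P : Over (Spec ((Spec (CommRingCat.of A)).residueField s)) :=
    Red.bc ((Spec (CommRingCat.of A)).fromSpecResidueField s) G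
  haveI : LocallyOfFiniteType P.hom := MorphismProperty.pullback_snd _ _ ‹LocallyOfFiniteType G.hom›
  haveI hPcm : LocCoh.IsCohenMacaulayLocalRing ((G.hom.fiber s).presheaf.stalk w) :=
    Groth.Agent.S3029.result ((Spec (CommRingCat.of A)).residueField s) P w
  let r := ((G.left.presheaf.stalkCongr (.of_eq hw)).inv ≫ (G.hom.fiberι s).stalkMap w).hom
  have hker : RingHom.ker r = (maximalIdeal A).map (algebraMap A O) := by
    rw [hm]
    exact Groth.L20.ker_stalkCongr_comp G.hom s w hw
  haveI : LocCoh.IsCohenMacaulayLocalRing (O ⧸ (maximalIdeal A).map (algebraMap A O)) :=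
    L02.CMMor.cm_of_ringEquiv ((Ideal.quotEquivOfEq hker.symm).trans
      (RingHom.quotientKerEquivOfSurjective (Groth.L20.surjective_stalkCongr_comp G.hom s w hw))).symm hPcm
  obtain ⟨n, x, N, hx, hN⟩ := exists_regular_cut (O ⧸ (maximalIdeal A).map (algebraMap A O))
  choose a ha using fun i => Ideal.Quotient.mk_surjective (x i)
  obtain ⟨-, hflat⟩ := Groth.L12.RegLift.regular_flat_of_fibre (C := A) a (by simp only [ha]; exact hx)
  -- the quotient
  let I : Ideal O := Ideal.span (Set.range a)
  have haI : I ≤ maximalIdeal O := by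
    rw [Ideal.span_le]
    rintro _ ⟨i, rfl⟩
    have h0 := Groth.L12.RegLift.ofFn_mem hx _ (List.mem_ofFn.2 ⟨i, rfl⟩)
    rw [← ha, mem_maximalIdeal, mem_nonunits_iff] at h0
    exact fun hu => h0 (hu.map _)
  haveI : Nontrivial (O ⧸ I) :=
    Ideal.Quotient.nontrivial_iff.2 (ne_top_of_le_ne_top (maximalIdeal.isMaximal O).ne_top haI)
  haveI : IsLocalRing (O ⧸ I) := IsLocalRing.of_surjective' _ Ideal.Quotient.mk_surjective
  let ρ : O ⧸ I →+* L := Ideal.Quotient.lift I ρ₀.hom fun b hb => by
    by_contra hne
    exact haI hb (isUnit_of_map_unit ρ₀.hom b (Ne.isUnit hne))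
  haveI : IsLocalHom ρ := ⟨fun b hb => by
    obtain ⟨c, rfl⟩ := Ideal.Quotient.mk_surjective b
    exact (isUnit_of_map_unit ρ₀.hom c hb).map _⟩
  have hρσ : ρ.comp (algebraMap A (O ⧸ I)) = σ := congrArg CommRingCat.Hom.hom hσα
  -- finiteness
  obtain ⟨M, hM⟩ : ∃ M, maximalIdeal (O ⧸ I) ^ M = ⊥ := by
    obtain ⟨e, he⟩ := (isArtinianRing_iff_isNilpotent_maximalIdeal A).mp ‹_›
    refine ⟨N * e, ?_⟩
    have h1 : maximalIdeal O ^ N ≤ (maximalIdeal A).map (algebraMap A O) ⊔ I := by
      have h2 := Ideal.map_le_iff_le_comap.1 (show (maximalIdeal O ^ N).map (Ideal.Quotient.mk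
          ((maximalIdeal A).map (algebraMap A O))) ≤
          I.map (Ideal.Quotient.mk ((maximalIdeal A).map (algebraMap A O))) by
        rw [Ideal.map_pow, ← Groth.L01.maximalIdeal_quotient_eq_map, Ideal.map_span, ← Set.range_comp]
        simp only [Function.comp_def, ha]
        exact hN)
      rw [Ideal.comap_map_of_surjective _ Ideal.Quotient.mk_surjective, ← RingHom.ker_eq_comap_bot,
        Ideal.mk_ker, sup_comm] at h2
      exact h2
    rw [Groth.L01.maximalIdeal_quotient_eq_map, ← Ideal.map_pow, pow_mul, Ideal.map_pow]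
    refine le_bot_iff.1 ((Ideal.pow_right_mono ((Ideal.map_mono h1).trans (by
      rw [Ideal.map_sup, Ideal.map_quotient_self, sup_bot_eq])) e).trans ?_)
    rw [Ideal.map_map, ← Ideal.map_pow, he]
    exact le_of_eq Ideal.map_bot
  letI : Algebra (ResidueField (O ⧸ I)) L := (IsLocalRing.ResidueField.lift ρ).toAlgebra
  haveI : Module.Finite A (ResidueField (O ⧸ I)) := by
    letI := σ.toAlgebra
    haveI : Module.Finite A L := hσ
    let f : ResidueField (O ⧸ I) →ₗ[A] L :=
      { toFun := IsLocalRing.ResidueField.lift ρ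
        map_add' := map_add _
        map_smul' := fun c z => by
          rw [Algebra.smul_def, map_mul, IsScalarTower.algebraMap_apply A (O ⧸ I) (ResidueField (O ⧸ I))]
          exact congrArg (· * IsLocalRing.ResidueField.lift ρ z) (RingHom.congr_fun hρσ c) }
    exact Module.Finite.of_injective f (IsLocalRing.ResidueField.lift ρ).injective
  haveI : Module.Finite A (O ⧸ I) := finite_of_residueField hM
  haveI : Module.Flat A (O ⧸ I) := hflat
  haveI : Module.Free A (O ⧸ I) := Module.free_of_flat_of_isLocalRing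
  refine ⟨O ⧸ I, inferInstance, inferInstance, inferInstance, inferInstance, inferInstance, ρ,
    Spec.map (CommRingCat.ofHom (Ideal.Quotient.mk I)) ≫ G.left.fromSpecStalk y, inferInstance, hρσ, ?_, ?_⟩
  · rw [Category.assoc, ← hα, ← Spec.map_comp]
    rfl
  · rw [← Spec.map_comp_assoc]
    exact hρ₀

end Groth.L04.StrictRat
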