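import Groth.Agent.L04.StrictRat.Local
import Groth.Agent.L02.Gonflement.Main
import Mathlib.AlgebraicGeometry.Morphisms.Finite
import Mathlib.FieldTheory.Normal.Closure
import Mathlib.FieldTheory.IsAlgClosed.AlgebraicClosure

/-!
# Making the points over a closed point strictly rational
-/

set_option autoImplicit false
set_option linter.style.haveILetI false
set_option linter.unusedSectionVars false
set_option backward.isDefEq.respectTransparency false
set_option backward.isDefEq.respectTransparency.types false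

universe u

open CategoryTheory CategoryTheory.Limits AlgebraicGeometry IsLocalRing TensorProduct

namespace Groth.L04.StrictRat

/-- Embeddings factor through a normal extension into which the field embeds. -/
theorem exists_factor {k K L K' : Type u} [Field k] [Field K] [Field L] [Field K'] [Algebra k K] [Algebra k L]
    [Algebra k K'] [Normal k L] (τ₀ : K →ₐ[k] L) (ψ : L →ₐ[k] K') (e : K →ₐ[k] K') :
    ∃ τ : K →ₐ[k] L, ψ.comp τ = e := by
  have h : ∀ a, e a ∈ ψ.range := fun a => by
    have hs : ((minpoly k a).map (algebraMap k L)).Splits := by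
      rw [← minpoly.algHom_eq τ₀ τ₀.injective a]
      exact Normal.splits ‹_› (τ₀ a)
    have hint : IsIntegral k a :=
      (isIntegral_algHom_iff τ₀ τ₀.injective).1 (Normal.isIntegral ‹_› (τ₀ a))
    have h0 : (minpoly k a).map (algebraMap k L) ≠ 0 := Polynomial.map_ne_zero (minpoly.ne_zero hint)
    obtain ⟨b, hb⟩ := hs.mem_range_of_isRoot h0 (i := ψ.toRingHom) (x := e a) (by
      rw [Polynomial.IsRoot, Polynomial.map_map, AlgHom.toRingHom_eq_coe, AlgHom.comp_algebraMap,
        Polynomial.eval_map, ← Polynomial.aeval_def, Polynomial.aeval_algHom_apply, minpoly.aeval, map_zero])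
    exact ⟨b, hb⟩
  refine ⟨(AlgEquiv.ofInjective ψ ψ.injective).symm.toAlgHom.comp (e.codRestrict ψ.range h),
    AlgHom.ext fun a => ?_⟩
  exact congrArg Subtype.val ((AlgEquiv.ofInjective ψ ψ.injective).apply_symm_apply ⟨e a, h a⟩)

/-- Tensor products of local algebras with the same residue field. -/
theorem tensor_local {A T B L : Type u} [CommRing A] [IsArtinianRing A] [CommRing T] [CommRing B] [Field L]
    [IsLocalRing T] [IsLocalRing B] [Algebra A T] [Algebra A B] [Module.Finite A T] [Module.Finite A B]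
    (σ : A →+* L) (hσ : Function.Surjective σ) (ρT : T →+* L) (ρB : B →+* L) [IsLocalHom ρT] [IsLocalHom ρB]
    (hT : ρT.comp (algebraMap A T) = σ) (hB : ρB.comp (algebraMap A B) = σ) :
    ∃ (_ : IsLocalRing (T ⊗[A] B)) (ρ : T ⊗[A] B →+* L), IsLocalHom ρ ∧
      ρ.comp Algebra.TensorProduct.includeLeftRingHom = ρT ∧
      ρ.comp (Algebra.TensorProduct.includeRight (R := A) (A := T) (B := B)).toRingHom = ρB := by
  letI := σ.toAlgebra
  let fT : T →ₐ[A] L := { ρT with commutes' := fun a => RingHom.congr_fun hT a }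
  let fB : B →ₐ[A] L := { ρB with commutes' := fun a => RingHom.congr_fun hB a }
  let ρ : T ⊗[A] B →ₐ[A] L := Algebra.TensorProduct.lift fT fB fun _ _ => Commute.all _ _
  have hρ : ∀ t b, ρ (t ⊗ₜ b) = ρT t * ρB b := fun t b => Algebra.TensorProduct.lift_tmul _ _ _ t b
  have hkT : ∀ {t}, ρT t = 0 → t ∈ maximalIdeal T := fun {t} h => by
    by_contra hu
    exact not_isUnit_zero (h ▸ (notMem_maximalIdeal.1 hu).map ρT)
  have hkB : ∀ {b}, ρB b = 0 → b ∈ maximalIdeal B := fun {b} h => by
    by_contra hu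
    exact not_isUnit_zero (h ▸ (notMem_maximalIdeal.1 hu).map ρB)
  haveI : IsArtinianRing T := IsArtinianRing.of_finite A T
  haveI : IsArtinianRing B := IsArtinianRing.of_finite A B
  have key : ∀ P : Ideal (T ⊗[A] B), P.IsPrime → ∀ z, ∃ a, z - algebraMap A _ a ∈ P ∧ ρ z = σ a := by
    intro P hP z
    have h1 : ∀ t ∈ maximalIdeal T, t ⊗ₜ[A] (1 : B) ∈ P := fun t ht => by
      haveI := hP.comap (Algebra.TensorProduct.includeLeftRingHom : T →+* T ⊗[A] B)
      have := eq_maximalIdeal (IsArtinianRing.isMaximal_of_isPrime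
        (P.comap (Algebra.TensorProduct.includeLeftRingHom : T →+* T ⊗[A] B)))
      exact (this.ge ht : _)
    have h2 : ∀ b ∈ maximalIdeal B, (1 : T) ⊗ₜ[A] b ∈ P := fun b hb => by
      haveI := hP.comap (Algebra.TensorProduct.includeRight (R := A) (A := T) (B := B)).toRingHom
      have := eq_maximalIdeal (IsArtinianRing.isMaximal_of_isPrime
        (P.comap (Algebra.TensorProduct.includeRight (R := A) (A := T) (B := B)).toRingHom))
      exact (this.ge hb : _)
    induction z using TensorProduct.induction_on with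
    | zero => exact ⟨0, by simp, by simp⟩
    | add x y hx hy =>
      obtain ⟨a, ha, ha'⟩ := hx
      obtain ⟨b, hb, hb'⟩ := hy
      exact ⟨a + b, by rw [map_add, add_sub_add_comm]; exact P.add_mem ha hb, by rw [map_add, ha', hb', map_add]⟩
    | tmul t b =>
      obtain ⟨a, ha⟩ := hσ (ρT t)
      obtain ⟨c, hc⟩ := hσ (ρB b)
      refine ⟨a * c, ?_, by rw [hρ, map_mul, ha, hc]⟩
      have ht : t - algebraMap A T a ∈ maximalIdeal T :=
        hkT (by rw [map_sub, ← RingHom.comp_apply, hT, ha, sub_self])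
      have hb : b - algebraMap A B c ∈ maximalIdeal B :=
        hkB (by rw [map_sub, ← RingHom.comp_apply, hB, hc, sub_self])
      have e : t ⊗ₜ[A] b - algebraMap A _ (a * c) =
          ((t - algebraMap A T a) ⊗ₜ[A] (1 : B)) * ((1 : T) ⊗ₜ[A] b) +
            algebraMap A _ a * ((1 : T) ⊗ₜ[A] (b - algebraMap A B c)) := by
        simp only [TensorProduct.sub_tmul, TensorProduct.tmul_sub, map_mul, sub_mul, mul_sub,
          Algebra.TensorProduct.tmul_mul_tmul, one_mul, mul_one, Algebra.TensorProduct.algebraMap_apply]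
        rw [show algebraMap A T a ⊗ₜ[A] algebraMap A B c = (algebraMap A T a * algebraMap A T c) ⊗ₜ[A] (1 : B) by
          rw [Algebra.algebraMap_eq_smul_one (A := B), TensorProduct.tmul_smul, TensorProduct.smul_tmul',
            Algebra.smul_def, mul_comm]]
        abel
      rw [e]
      exact P.add_mem (P.mul_mem_right _ (h1 _ ht)) (P.mul_mem_left _ (h2 _ hb))
  haveI hmax : (RingHom.ker (ρ : T ⊗[A] B →+* L)).IsMaximal :=
    RingHom.ker_isMaximal_of_surjective _ fun y => by
      obtain ⟨a, ha⟩ := hσ y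
      exact ⟨algebraMap A _ a, (ρ.commutes a).trans ha⟩
  have huniq : ∀ P : Ideal (T ⊗[A] B), P.IsMaximal → P = RingHom.ker (ρ : T ⊗[A] B →+* L) := fun P hP => by
    refine (hmax.eq_of_le hP.ne_top fun z hz => ?_).symm
    obtain ⟨a, ha, ha'⟩ := key P hP.isPrime z
    have h0 : algebraMap A (T ⊗[A] B) a ∈ P := by
      haveI := hP.isPrime.comap (algebraMap A (T ⊗[A] B))
      by_contra hne
      haveI hm : (RingHom.ker σ).IsMaximal := RingHom.ker_isMaximal_of_surjective σ hσ
      haveI hm' := IsArtinianRing.isMaximal_of_isPrime (P.comap (algebraMap A (T ⊗[A] B)))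
      have hTmax : P.comap (algebraMap A (T ⊗[A] B)) = RingHom.ker σ := by
        haveI := hP.isPrime.comap (Algebra.TensorProduct.includeLeftRingHom : T →+* T ⊗[A] B)
        have h1 := eq_maximalIdeal (IsArtinianRing.isMaximal_of_isPrime
          (P.comap (Algebra.TensorProduct.includeLeftRingHom : T →+* T ⊗[A] B)))
        refine (hm.eq_of_le hm'.ne_top fun c hc => ?_).symm
        have h2 : algebraMap A T c ∈ maximalIdeal T := hkT (by rw [← RingHom.comp_apply, hT]; exact hc)
        rw [← h1] at h2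
        exact h2
      exact hne (hTmax.ge (show σ a = 0 by rw [← ha']; exact hz))
    simpa using P.add_mem ha h0
  haveI hloc : IsLocalRing (T ⊗[A] B) :=
    IsLocalRing.of_unique_max_ideal ⟨_, hmax, fun P hP => huniq P hP⟩
  refine ⟨hloc, ρ, ⟨fun z hz => ?_⟩, RingHom.ext fun t => ?_, RingHom.ext fun b => ?_⟩
  · by_contra h
    have h1 : z ∈ maximalIdeal (T ⊗[A] B) := h
    rw [huniq _ (maximalIdeal.isMaximal _)] at h1
    exact hz.ne_zero h1
  · show ρ (t ⊗ₜ 1) = _
    rw [hρ, map_one, mul_one]
  · show ρ (1 ⊗ₜ b) = _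
    rw [hρ, map_one, one_mul]

/-- Over a finite free extension of an Artinian base the points over a closed point are strictly rational. -/
theorem exists_strictlyRational (A : Type u) [CommRing A] [IsArtinianRing A] [IsLocalRing A]
    (G : Over (Spec (CommRingCat.of A))) [GrpObj G] [Flat G.hom] [LocallyOfFiniteType G.hom]
    (x : G.left) (hx : IsClosed ({x} : Set G.left)) :
    ∃ (A' : Type u) (_ : CommRing A') (_ : IsLocalRing A') (_ : Algebra A A') (_ : Module.Finite A A')
      (_ : Module.Free A A'),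
      ∀ x' : ↥(pullback G.hom (Spec.map (CommRingCat.ofHom (algebraMap A A')))),
        (pullback.fst G.hom (Spec.map (CommRingCat.ofHom (algebraMap A A')))).base x' = x →
        ∃ s : Spec (CommRingCat.of A') ⟶ pullback G.hom (Spec.map (CommRingCat.ofHom (algebraMap A A'))),
          s ≫ pullback.snd G.hom (Spec.map (CommRingCat.ofHom (algebraMap A A'))) = 𝟙 _ ∧ x' ∈ Set.range s.base := by
  classical
  let K := G.left.residueField x
  obtain ⟨φ, hφ⟩ := Spec.map_surjective (G.left.fromSpecResidueField x ≫ G.hom)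
  haveI : IsLocalHom φ.hom := ⟨fun a ha => by
    by_contra hu
    haveI := RingHom.ker_isPrime φ.hom
    haveI := IsArtinianRing.isMaximal_of_isPrime (RingHom.ker φ.hom)
    have h0 : a ∈ RingHom.ker φ.hom :=
      (eq_maximalIdeal (I := RingHom.ker φ.hom) inferInstance).ge ((mem_maximalIdeal a).2 hu)
    exact ha.ne_zero h0⟩
  have hfin : φ.hom.Finite := by
    haveI : IsClosedImmersion (G.left.fromSpecResidueField x) :=
      IsClosedImmersion.of_isPreimmersion _ (by rw [Scheme.range_fromSpecResidueField]; exact hx)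
    have h : LocallyOfFiniteType (Spec.map φ) := by rw [hφ]; infer_instance
    rw [HasRingHomProperty.Spec_iff (P := @LocallyOfFiniteType)] at h
    letI := φ.hom.toAlgebra
    haveI : Algebra.FiniteType A K := h
    exact finite_of_finite_type_of_isJacobsonRing A K
  let k := ResidueField A
  letI : Algebra k K := (IsLocalRing.ResidueField.lift φ.hom).toAlgebra
  haveI : Module.Finite k K := by
    letI := φ.hom.toAlgebra
    haveI : Module.Finite A K := hfin
    haveI : IsScalarTower A k K := IsScalarTower.of_algebraMap_eq fun a => rfl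
    exact Module.Finite.of_restrictScalars_finite A k K
  let L : IntermediateField k (AlgebraicClosure k) := IntermediateField.normalClosure k K (AlgebraicClosure k)
  let τ₁ : K →ₐ[k] AlgebraicClosure k := IsAlgClosed.lift
  let τ₀ : K →ₐ[k] L := τ₁.codRestrict L.toSubalgebra fun a =>
    AlgHom.fieldRange_le_normalClosure τ₁ ⟨a, rfl⟩
  haveI : Normal k L := inferInstance
  obtain ⟨A₀, _, _, _, σ, _, _, _, hσ, -, hσsurj⟩ := Groth.L02.Gonflement.exists_finite_free_local (R := A) ↥L
  haveI : IsArtinianRing A₀ := IsArtinianRing.of_finite A A₀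
  let θ : Spec (CommRingCat.of A₀) ⟶ Spec (CommRingCat.of A) := Spec.map (CommRingCat.ofHom (algebraMap A A₀))
  let G₀ : Over (Spec (CommRingCat.of A₀)) := Red.bc θ G
  haveI : Flat G₀.hom := MorphismProperty.pullback_snd _ _ ‹Flat G.hom›
  haveI : LocallyOfFiniteType G₀.hom := MorphismProperty.pullback_snd _ _ ‹LocallyOfFiniteType G.hom›
  have hτ : ∀ τ : K →ₐ[k] L, (Spec.map (CommRingCat.ofHom τ.toRingHom) ≫ G.left.fromSpecResidueField x) ≫ G.hom =
      Spec.map (CommRingCat.ofHom σ) ≫ θ := fun τ => by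
    rw [Category.assoc, ← hφ, ← Spec.map_comp, ← Spec.map_comp]
    refine congrArg Spec.map (CommRingCat.hom_ext (RingHom.ext fun a => ?_))
    show τ (φ.hom a) = σ (algebraMap A A₀ a)
    rw [← RingHom.comp_apply σ, hσ]
    exact τ.commutes (residue A a)
  let qτ : (K →ₐ[k] L) → (Spec (CommRingCat.of ↥L) ⟶ G₀.left) := fun τ =>
    pullback.lift _ _ (hτ τ)
  have hqτ : ∀ τ, qτ τ ≫ G₀.hom = Spec.map (CommRingCat.ofHom σ) := fun τ => pullback.lift_snd _ _ _
  -- one algebra for all embeddings
  haveI : Finite (K →ₐ[k] L) := Finite.algHom k K L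
  letI := Fintype.ofFinite (K →ₐ[k] L)
  have hall : ∀ s : Finset (K →ₐ[k] L), ∃ (T : Type u) (_ : CommRing T) (_ : IsLocalRing T) (_ : Algebra A₀ T)
      (_ : Module.Finite A₀ T) (_ : Module.Free A₀ T) (ρ : T →+* L),
      IsLocalHom ρ ∧ ρ.comp (algebraMap A₀ T) = σ ∧ ∀ τ ∈ s, ∃ h : Spec (CommRingCat.of T) ⟶ G₀.left,
        h ≫ G₀.hom = Spec.map (CommRingCat.ofHom (algebraMap A₀ T)) ∧
          Spec.map (CommRingCat.ofHom ρ) ≫ h = qτ τ := by
    intro s
    induction s using Finset.induction_on with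
    | empty =>
      refine ⟨A₀, inferInstance, inferInstance, inferInstance, inferInstance, inferInstance, σ, ?_, rfl,
        fun τ h => absurd h (Finset.notMem_empty τ)⟩
      haveI := RingHom.ker_isMaximal_of_surjective σ hσsurj
      refine ⟨fun a ha => ?_⟩
      by_contra hu
      exact ha.ne_zero ((eq_maximalIdeal (I := RingHom.ker σ) inferInstance).ge ((mem_maximalIdeal a).2 hu))
    | @insert τ₂ s _ ih =>
      obtain ⟨T, _, _, _, _, _, ρT, _, hT, hTs⟩ := ih
      obtain ⟨B, _, _, _, _, _, ρB, h, _, hB, hh, hh'⟩ :=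
        exists_quasiSection G₀ σ (RingHom.Finite.of_surjective σ hσsurj) (qτ τ₂) (hqτ τ₂)
      obtain ⟨_, ρ, _, hl, hr⟩ := tensor_local σ hσsurj ρT ρB hT hB
      refine ⟨T ⊗[A₀] B, inferInstance, inferInstance, inferInstance, inferInstance, inferInstance, ρ,
        inferInstance, ?_, fun τ hτs => ?_⟩
      · rw [← hT, ← hl]
        rfl
      rcases Finset.mem_insert.1 hτs with rfl | hτs
      · refine ⟨Spec.map (CommRingCat.ofHom (Algebra.TensorProduct.includeRight (R := A₀) (A := T) (B := B)).toRingHom) ≫ h,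
          ?_, ?_⟩
        · rw [Category.assoc, hh, ← Spec.map_comp]
          congr 1
          ext a
          exact (Algebra.TensorProduct.includeRight (R := A₀) (A := T) (B := B)).commutes a
        · rw [← Spec.map_comp_assoc, ← CommRingCat.ofHom_comp, hr, hh']
      · obtain ⟨g, hg, hg'⟩ := hTs τ hτs
        refine ⟨Spec.map (CommRingCat.ofHom
          (Algebra.TensorProduct.includeLeftRingHom : T →+* T ⊗[A₀] B)) ≫ g, ?_, ?_⟩
        · rw [Category.assoc, hg, ← Spec.map_comp]
          rfl
        · rw [← Spec.map_comp_assoc, ← CommRingCat.ofHom_comp, hl, hg']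
  obtain ⟨T, _, _, _, _, _, ρ, _, hρ, hTs⟩ := hall Finset.univ
  letI : Algebra A T := ((algebraMap A₀ T).comp (algebraMap A A₀)).toAlgebra
  haveI : IsScalarTower A A₀ T := IsScalarTower.of_algebraMap_eq fun a => rfl
  haveI : Module.Finite A T := Module.Finite.trans A₀ T
  haveI : Module.Free A T := Module.Free.trans (S := A₀)
  haveI : IsArtinianRing T := IsArtinianRing.of_finite A T
  refine ⟨T, inferInstance, inferInstance, inferInstance, inferInstance, inferInstance, fun x' hx' => ?_⟩
  let θ' : Spec (CommRingCat.of T) ⟶ Spec (CommRingCat.of A) := Spec.map (CommRingCat.ofHom (algebraMap A T))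
  let P := pullback G.hom θ'
  let K' := P.residueField x'
  obtain ⟨χ, hχ⟩ := Spec.map_surjective (P.fromSpecResidueField x' ≫ pullback.snd G.hom θ')
  have hρsurj : Function.Surjective ρ := fun y => by
    obtain ⟨a, ha⟩ := hσsurj y
    exact ⟨algebraMap A₀ T a, (RingHom.congr_fun hρ a).trans ha⟩
  have hker : RingHom.ker ρ ≤ RingHom.ker χ.hom := by
    haveI := RingHom.ker_isPrime χ.hom
    haveI := IsArtinianRing.isMaximal_of_isPrime (RingHom.ker χ.hom)
    haveI := RingHom.ker_isMaximal_of_surjective ρ hρsurj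
    rw [eq_maximalIdeal (I := RingHom.ker ρ) inferInstance, eq_maximalIdeal (I := RingHom.ker χ.hom) inferInstance]
  let ψ : L →+* K' := ρ.liftOfSurjective hρsurj ⟨χ.hom, hker⟩
  have hψ : ψ.comp ρ = χ.hom := RingHom.liftOfSurjective_comp ρ hρsurj ⟨χ.hom, hker⟩
  let e : K →+* K' := (G.left.residueFieldCongr hx'.symm ≪≫ Iso.refl _).hom.hom |>
    ((pullback.fst G.hom θ').residueFieldMap x').hom.comp
  have he : Spec.map (CommRingCat.ofHom e) ≫ G.left.fromSpecResidueField x =
      P.fromSpecResidueField x' ≫ pullback.fst G.hom θ' := by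
    show Spec.map ((G.left.residueFieldCongr hx'.symm).hom ≫ 𝟙 _ ≫ (pullback.fst G.hom θ').residueFieldMap x') ≫ _ = _
    rw [Category.id_comp, Spec.map_comp, Category.assoc, Scheme.residueFieldCongr_fromSpecResidueField,
      Scheme.Hom.SpecMap_residueFieldMap_fromSpecResidueField]
  have hsq : ∀ a, e (φ.hom a) = χ.hom (algebraMap A T a) := fun a => by
    have h : φ ≫ CommRingCat.ofHom e = CommRingCat.ofHom (algebraMap A T) ≫ χ := Spec.map_injective (by
      rw [Spec.map_comp, Spec.map_comp, hφ, hχ, reassoc_of% he, Category.assoc, pullback.condition])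
    exact RingHom.congr_fun (congrArg CommRingCat.Hom.hom h) a
  letI : Algebra k K' := (ψ.comp (algebraMap k L)).toAlgebra
  have hcomm : ∀ c : k, e (algebraMap k K c) = algebraMap k K' c := fun c => by
    obtain ⟨a, rfl⟩ := residue_surjective c
    refine (hsq a).trans ?_
    show _ = ψ (algebraMap k L (residue A a))
    rw [← hψ, RingHom.comp_apply]
    congr 1
    exact (RingHom.congr_fun hρ _).trans (RingHom.congr_fun hσ a)
  obtain ⟨τ, hτe⟩ := exists_factor τ₀ (⟨ψ, fun _ => rfl⟩ : L →ₐ[k] K') (⟨e, hcomm⟩ : K →ₐ[k] K')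
  obtain ⟨h, hh, hh'⟩ := hTs τ (Finset.mem_univ τ)
  have hfst : (h ≫ pullback.fst G.hom θ) ≫ G.hom = 𝟙 _ ≫ θ' := by
    rw [Category.assoc, pullback.condition, Category.id_comp, ← Category.assoc]
    erw [hh]
    show _ ≫ Spec.map _ = _
    rw [← Spec.map_comp]
    rfl
  refine ⟨pullback.lift (h ≫ pullback.fst G.hom θ) (𝟙 _) hfst, pullback.lift_snd _ _ _, ?_⟩
  have hpt : P.fromSpecResidueField x' =
      Spec.map (CommRingCat.ofHom χ.hom) ≫ pullback.lift (h ≫ pullback.fst G.hom θ) (𝟙 _) hfst := by
    refine pullback.hom_ext ?_ ?_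
    · rw [Category.assoc, pullback.lift_fst, ← he]
      have e1 : Spec.map (CommRingCat.ofHom χ.hom) = Spec.map (CommRingCat.ofHom ψ) ≫ Spec.map (CommRingCat.ofHom ρ) := by
        rw [← Spec.map_comp, ← CommRingCat.ofHom_comp, hψ]
      rw [e1, Category.assoc, reassoc_of% hh', pullback.lift_fst, ← Spec.map_comp_assoc, ← CommRingCat.ofHom_comp]
      congr 3
      exact (congrArg AlgHom.toRingHom hτe).symm
    · rw [Category.assoc, pullback.lift_snd, Category.comp_id, CommRingCat.ofHom_hom, hχ]
  have hmem : x' ∈ Set.range (P.fromSpecResidueField x').base := by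
    rw [Scheme.range_fromSpecResidueField]
    rfl
  rw [hpt, Scheme.Hom.comp_base] at hmem
  obtain ⟨z, hz⟩ := hmem
  exact ⟨_, hz⟩

end Groth.L04.StrictRat
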